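import Cfsg.Agent.Lib.HNSub.Chain100

/-! Inverse codes and orbit trees (point, position of the parent, generator) for the action on 100 points (generated). -/

set_option autoImplicit false
set_option maxRecDepth 20000

namespace Cfsg.Agent.Lib.HNSub.Chain100

/-- The codes of the inverses. -/
def invCodes : List Nat := [0xc58ee5ab15eb61a78295fbd76742b7661bd7755cc66f01b336531831a35174a6ab282b9eaa6a79725fa5911e245470513e78e8f1d7071a1a5eb4c1628a542622907a11a8061f1628d893220b95264880e080c1070c14001, 0xc1770e3b78af54b34afda955ee5580fa5cfa0e5d53b0d9e479159ec9693a6ad59455c17f113cc8ac582f48ce32387094a140edc2844ddab232b8fa6544c9104a44d943a70f0b2e5448d34603960c3828f18284010800182, 0xc58f0dabf7aedca782cd8af5a14eb74a1bb7b526c68f01a3e97322afa3560ca7f227bca0e9ca66495ac958dd1b088b90b356a949d38e1b1a62616942c794271e908a21a7caa02628c893620b8c164880e080c2870c08001]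

/-- The orbit of the first point. -/
def allTree : List (Nat × Nat × Nat) := [
  (0, 0, 0), (2, 0, 0), (7, 0, 1), (16, 1, 1), (1, 1, 2), (13, 2, 0),
  (6, 2, 1), (28, 3, 0), (27, 3, 1), (25, 3, 2), (4, 4, 0), (5, 4, 1),
  (11, 5, 1), (19, 5, 2), (22, 7, 0), (57, 7, 2), (36, 8, 1), (14, 8, 2),
  (35, 9, 0), (3, 10, 0), (23, 10, 1), (9, 11, 0), (20, 12, 0), (41, 12, 1),
  (32, 12, 2), (30, 13, 0), (31, 13, 1), (12, 14, 0), (60, 14, 1), (45, 14, 2),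
  (78, 15, 0), (46, 15, 1), (84, 15, 2), (51, 16, 0), (10, 17, 0), (48, 18, 0),
  (37, 18, 1), (17, 21, 0), (38, 21, 1), (39, 21, 2), (24, 22, 0), (43, 22, 2),
  (33, 23, 2), (21, 24, 1), (34, 24, 2), (73, 28, 0), (80, 28, 1), (52, 28, 2),
  (64, 29, 0), (56, 29, 1), (66, 30, 0), (92, 30, 2), (65, 32, 1), (85, 32, 2),
  (50, 33, 0), (63, 33, 2), (40, 34, 1), (53, 35, 0), (75, 35, 1), (81, 36, 1),
  (26, 37, 0), (15, 37, 1), (49, 37, 2), (62, 40, 1), (61, 41, 0), (54, 41, 1),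
  (79, 41, 2), (44, 42, 0), (8, 42, 1), (74, 42, 2), (18, 43, 0), (68, 45, 0),
  (42, 46, 2), (67, 47, 0), (47, 47, 2), (83, 48, 0), (94, 48, 1), (87, 48, 2),
  (77, 49, 1), (97, 50, 1), (59, 55, 0), (72, 60, 1), (82, 63, 0), (69, 64, 0),
  (58, 66, 1), (89, 67, 1), (55, 67, 2), (91, 69, 1), (29, 70, 0), (76, 75, 0),
  (88, 75, 1), (95, 75, 2), (93, 76, 0), (86, 77, 0), (71, 81, 0), (90, 82, 0),
  (96, 82, 2), (70, 87, 1), (98, 92, 0), (99, 92, 2)]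

/-- The short suborbit. -/
def nbTree : List (Nat × Nat × Nat) := [
  (18, 0, 0), (81, 0, 0), (31, 0, 1), (76, 0, 2), (23, 0, 4), (40, 0, 5),
  (64, 1, 0), (44, 1, 1), (91, 1, 4), (99, 2, 0), (59, 2, 2), (61, 2, 4),
  (55, 3, 3), (72, 5, 0), (71, 5, 2), (88, 5, 5), (32, 6, 2), (89, 7, 5),
  (82, 8, 5), (41, 12, 5), (30, 15, 3), (95, 15, 5)]

/-- The long suborbit. -/
def farTree : List (Nat × Nat × Nat) := [
  (1, 0, 0), (48, 0, 5), (47, 1, 0), (78, 1, 1), (15, 1, 2), (25, 1, 3),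
  (5, 1, 4), (20, 1, 5), (27, 2, 0), (9, 2, 1), (16, 2, 2), (52, 2, 3),
  (69, 2, 5), (94, 3, 0), (7, 3, 3), (19, 3, 4), (53, 3, 5), (12, 4, 0),
  (8, 4, 3), (57, 4, 4), (33, 4, 5), (17, 5, 0), (39, 5, 1), (93, 5, 4),
  (2, 5, 5), (35, 6, 0), (26, 6, 1), (36, 6, 2), (54, 6, 3), (10, 7, 0),
  (13, 7, 1), (22, 7, 4), (65, 8, 2), (4, 8, 3), (86, 8, 4), (6, 9, 0),
  (24, 9, 2), (3, 9, 5), (11, 10, 3), (34, 10, 5), (14, 11, 0), (42, 12, 0),
  (21, 12, 1), (96, 12, 3), (68, 12, 5), (56, 15, 0), (45, 15, 1), (79, 16, 5),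
  (84, 17, 2), (85, 17, 3), (43, 17, 4), (29, 17, 5), (49, 18, 5), (37, 19, 0),
  (63, 20, 1), (60, 20, 5), (66, 21, 0), (77, 21, 4), (51, 22, 5), (28, 23, 0),
  (46, 23, 5), (38, 24, 4), (97, 24, 5), (87, 26, 3), (98, 29, 0), (80, 29, 2),
  (74, 29, 4), (83, 30, 4), (67, 31, 0), (70, 31, 2), (50, 31, 3), (92, 35, 5),
  (73, 39, 3), (90, 40, 4), (58, 42, 5), (75, 47, 4), (62, 51, 1)]

end Cfsg.Agent.Lib.HNSub.Chain100
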