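import Cfsg.Agent.Lib.HNSub.Pres

/-! An upper bound on a subgroup generated by letters: 6 cosets (generated certificate). -/

set_option autoImplicit false
set_option maxRecDepth 20000
set_option Elab.async false

namespace Cfsg.Agent.Lib.HNSub.EnumD

open Cfsg.Agent.Lib.CosetEnum

/-- Coset table. -/
noncomputable def table : PTree :=
  .leaf 0x30000000400000005000000020000000100000005000000040000000000000000000000030000000200000001

/-- Vertices of the final cosets. -/
noncomputable def vert : PTree :=
  .leaf 0x50000000400000003000000020000000100000000

/-- Facts of the table edges. -/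
noncomputable def edge : PTree :=
  .leaf 0x90000000a0000000b000000070000000500000008000000060000000300000001000000040000000200000000

/-- All facts. -/
noncomputable def facts : PTree :=
  .leaf 0x400000005000000000000000500000003000000010000000400000002000000000000000300000001000000010000000200000000000000000000000100000000

/-- Packed words. -/
noncomputable def words : PTree :=
  .node 2
  (.node 1
  (.leaf 0x1)
  (.leaf 0x40000000))
  (.node 3
  (.leaf 0x401)
  (.leaf 0x420))

/-- The certificate data. -/
noncomputable def data : Data :=
  ⟨2, 0x801, facts, words, 4, 4⟩

/-- Steps, part 0. -/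
noncomputable def part0 : List (ℕ × ℕ) :=
  [(1, 0x40000000000000003000000070000000800000004000000010000000100000003)]

theorem part0_ok : chunks data part0 5 = true ∧ 6 = 5 + chunksLen part0 :=
  ⟨by decide +kernel, by decide +kernel⟩

theorem defs_ok : defsOK data 5 = true := by decide +kernel

theorem good (G : Type) (_ : Group G) (φ : ℕ → G) (H : Subgroup G) (hV : Valid data φ H) :
    ∀ i < 6, Good data 5 φ H i :=
  (chunks_sound hV part0 part0_ok.1 part0_ok.2
      (fun i hi => good_defs defs_ok hi))

theorem edges_part0 : allFrom 0 6 (edgeAt data 6 6 table vert edge) = true := by decide +kernel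

theorem edges_ok : edgesOK data 6 6 table vert edge = true :=
  (allBelow_add (rfl : allBelow 0 (edgeAt data 6 6 table vert edge) = true) edges_part0
    (by omega : 0 + 6 = 6))

/-- The order bound. -/
theorem bound :
    Nat.card (subOf letters pres (([1, 2] : List ℕ).map fun g => [g])) ≠ 0 ∧
    Nat.card (subOf letters pres (([1, 2] : List ℕ).map fun g => [g])) ≤ 6 :=
  card_le_of_enum letters pres rels_mem letters_ok letters_col [1, 2]
    data 5 6 6 table vert edge (by omega) rfl (by decide +kernel) (by decide +kernel)
    (by decide +kernel) [[],
    [0, 0, 0, 0, 0, 0],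
    [0, 1],
    [1, 0]] []
    (by decide +kernel) (by decide +kernel) rfl rfl (by decide +kernel)
    (fun φ H hV => good _ _ φ H hV) (by decide +kernel) edges_ok 1 (card_subOf_nil _ _)

end Cfsg.Agent.Lib.HNSub.EnumD
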