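import Cfsg.Agent.Lib.HNSub.RepData
import Cfsg.Agent.Lib.Computation.PermCode
import Cfsg.Prelude.Def_Spor_HN

/-!
A representation of degree 133 over the integers modulo 31 of the presented Harada-Norton group, in
which the square of `x` is not trivial.
-/

set_option autoImplicit false
set_option maxRecDepth 20000

namespace Cfsg.Agent.Lib.HNSub.Rep

open Cfsg Cfsg.Agent.Lib.HNSub
open Cfsg.Agent.Lib.Computation (getW packW forceNat forceNat_eq getW_packW packW_succ getW_eq)
open Cfsg.Spor.HN (Gen)

/-- The combination of rows with the entries of a packed vector. Written with a recursor; the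
vectors fed to it should be dense, as the kernel hashes a literal by its low bits. -/
noncomputable def sumRows : List ℕ → ℕ → ℕ :=
  fun l => List.rec (fun _ => 0)
    (fun r _ ih c => Nat.add (Nat.mul (Nat.mod c 1048576) r) (ih (Nat.div c 1048576))) l

/-- Reduction of the first `n` entries, packing from the top. -/
noncomputable def red (n : ℕ) : ℕ → ℕ :=
  Nat.rec (fun _ => 0) (fun _ ih s => forceNat s fun t =>
    Nat.add (Nat.mod (Nat.mod t 1048576) 31) (Nat.shiftLeft (ih (Nat.shiftRight t 20)) 20)) n

/-- A packed vector times a matrix. -/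
noncomputable def stepC (g c : ℕ) : ℕ :=
  forceNat (sumRows (RepData.rows g) c) fun s => red 133 s

/-- A packed vector times a product of matrices. -/
noncomputable def evalC : List ℕ → ℕ → ℕ :=
  fun l => List.rec (fun c => c) (fun g _ ih c => forceNat c fun d => ih (stepC g d)) l

/-- A coded coordinate vector. -/
def unitC (i : ℕ) : ℕ := Nat.shiftLeft 1 (Nat.mul 20 i)

/-- A matrix. -/
noncomputable def mat (g : ℕ) : Matrix (Fin 133) (Fin 133) (ZMod 31) :=
  Matrix.of fun i j => ((getW 20 ((RepData.rows g).getD i.1 0) j.1 : ℕ) : ZMod 31)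

/-- The vector of a code. -/
noncomputable def dec (c : ℕ) : Fin 133 → ZMod 31 := fun j => ((getW 20 c j.1 : ℕ) : ZMod 31)

/-- All entries are reduced. -/
def Small (c : ℕ) : Prop := ∀ j < 133, getW 20 c j < 31

theorem rows_ok : ((List.range 7).all fun g => Nat.beq (RepData.rows g).length 133 &&
    (RepData.rows g).all fun r => Nat.beq r (packW 20 (getW 20 r) 133) &&
      (List.range 133).all fun j => Nat.blt (getW 20 r j) 31) = true := by decide +kernel

theorem packW_linear (a : ℕ) (f g : ℕ → ℕ) : ∀ k,
    packW 20 (fun j => a * f j + g j) k = a * packW 20 f k + packW 20 g k := by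
  intro k
  induction k with
  | zero => rfl
  | succ k ih => simp only [packW_succ, ih]; ring

theorem packW_succ_low (f : ℕ → ℕ) : ∀ k,
    packW 20 f (k + 1) = f 0 + 2 ^ 20 * packW 20 (fun j => f (j + 1)) k := by
  intro k
  induction k with
  | zero => rw [packW_succ]; simp [packW]
  | succ k ih => rw [packW_succ, ih, packW_succ 20 (fun j => f (j + 1)), pow_succ']; ring

theorem getW_div (c k : ℕ) : getW 20 (c / 2 ^ 20) k = getW 20 c (k + 1) := by
  rw [getW_eq, getW_eq, Nat.div_div_eq_div_mul, ← pow_add, Nat.mul_succ, Nat.add_comm]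

theorem getW_zero (c : ℕ) : getW 20 c 0 = c % 2 ^ 20 := by
  rw [getW_eq]; simp

theorem packW_congr {f g : ℕ → ℕ} : ∀ {k : ℕ}, (∀ j < k, f j = g j) → packW 20 f k = packW 20 g k := by
  intro k
  induction k with
  | zero => intro _; rfl
  | succ k ih =>
    intro h
    rw [packW_succ, packW_succ, h k k.lt_succ_self, ih fun j hj => h j (hj.trans k.lt_succ_self)]

theorem packW_zero : ∀ k, packW 20 (fun _ => 0) k = 0 := by
  intro k
  induction k with
  | zero => rfl
  | succ k ih => rw [packW_succ, ih]; simp

theorem sumRows_eq : ∀ (l : List ℕ) (c : ℕ),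
    (∀ r ∈ l, r = packW 20 (getW 20 r) 133) →
    sumRows l c = packW 20
      (fun j => ∑ k ∈ Finset.range l.length, getW 20 c k * getW 20 (l.getD k 0) j) 133 := by
  intro l
  induction l with
  | nil => intro c _; simp only [sumRows, List.length_nil, Finset.range_zero, Finset.sum_empty, packW_zero]
  | cons r l ih =>
    intro c h
    have e : (fun j => ∑ k ∈ Finset.range (r :: l).length,
        getW 20 c k * getW 20 ((r :: l).getD k 0) j) = fun j => c % 2 ^ 20 * getW 20 r j +
        ∑ k ∈ Finset.range l.length, getW 20 (c / 2 ^ 20) k * getW 20 (l.getD k 0) j := by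
      funext j
      rw [List.length_cons, Finset.sum_range_succ', add_comm]
      rw [List.getD_cons_zero, getW_zero]
      congr 1
      refine Finset.sum_congr rfl fun k _ => ?_
      rw [List.getD_cons_succ, getW_div]
    rw [e, packW_linear, ← ih (c / 2 ^ 20) (fun s hs => h s (List.mem_cons_of_mem _ hs)),
      ← h r List.mem_cons_self]
    rfl

theorem red_eq : ∀ n s : ℕ, red n s = packW 20 (fun j => getW 20 s j % 31) n := by
  intro n
  induction n with
  | zero => intro s; rfl
  | succ n ih =>
    intro s
    have h : red (n + 1) s = forceNat s fun t =>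
        Nat.add (Nat.mod (Nat.mod t 1048576) 31)
          (Nat.shiftLeft (red n (Nat.shiftRight t 20)) 20) := rfl
    rw [h, forceNat_eq, packW_succ_low, ih, getW_zero]
    simp only [← getW_div]
    change s % 1048576 % 31 + (packW 20 _ n) <<< 20 = _
    rw [Nat.shiftLeft_eq, Nat.mul_comm]
    congr 3
    funext j
    rw [← Nat.shiftRight_eq_div_pow]
    rfl

theorem rows_facts {g : ℕ} (hg : g < 7) : (RepData.rows g).length = 133 ∧
    ∀ r ∈ RepData.rows g, r = packW 20 (getW 20 r) 133 ∧ ∀ j < 133, getW 20 r j < 31 := by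
  have h := List.all_eq_true.1 rows_ok g (List.mem_range.2 hg)
  simp only [Bool.and_eq_true, List.all_eq_true, List.mem_range, Nat.beq_eq, Nat.blt_eq] at h
  exact h

theorem lane_lt {g c j : ℕ} (hg : g < 7) (hc : Small c) (hj : j < 133) :
    ∑ k ∈ Finset.range (RepData.rows g).length,
      getW 20 c k * getW 20 ((RepData.rows g).getD k 0) j < 2 ^ 20 := by
  obtain ⟨hl, hr⟩ := rows_facts hg
  rw [hl]
  refine lt_of_le_of_lt (Finset.sum_le_card_nsmul _ _ 900 fun k hk => ?_) (by simp)
  rw [Finset.mem_range] at hk
  have h1 := hc k hk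
  have hm : (RepData.rows g).getD k 0 ∈ RepData.rows g := by
    rw [List.getD_eq_getElem _ _ (by omega)]
    exact List.getElem_mem _
  have h2 := (hr _ hm).2 j hj
  exact (Nat.mul_le_mul (by omega : getW 20 c k ≤ 30) (by omega : _ ≤ 30)).trans (by norm_num)

theorem getW_stepC {g c j : ℕ} (hg : g < 7) (hc : Small c) (hj : j < 133) :
    getW 20 (stepC g c) j = (∑ k ∈ Finset.range 133,
      getW 20 c k * getW 20 ((RepData.rows g).getD k 0) j) % 31 := by
  obtain ⟨hl, hr⟩ := rows_facts hg
  rw [stepC, forceNat_eq, red_eq, getW_packW ?_ hj, sumRows_eq _ c fun r hr' => (hr r hr').1,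
    getW_packW (fun x hx => lane_lt hg hc hx) hj, hl]
  · intro x _
    exact (Nat.mod_lt _ (by norm_num)).trans (by norm_num)

theorem small_stepC {g c : ℕ} (hg : g < 7) (hc : Small c) : Small (stepC g c) := fun j hj => by
  rw [getW_stepC hg hc hj]
  exact Nat.mod_lt _ (by norm_num)

theorem dec_stepC {g c : ℕ} (hg : g < 7) (hc : Small c) :
    dec (stepC g c) = Matrix.vecMul (dec c) (mat g) := by
  funext j
  simp only [dec, Matrix.vecMul, dotProduct, mat, Matrix.of_apply]
  rw [getW_stepC hg hc j.2, ZMod.natCast_mod, Finset.sum_range, Nat.cast_sum]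
  exact Finset.sum_congr rfl fun k _ => Nat.cast_mul _ _

theorem evalC_spec : ∀ (l : List ℕ) (c : ℕ), (∀ g ∈ l, g < 7) → Small c →
    dec (evalC l c) = Matrix.vecMul (dec c) (l.map mat).prod := by
  intro l
  induction l with
  | nil => intro c _ _; simp [evalC]
  | cons g l ih =>
    intro c hl hc
    have hg := hl g List.mem_cons_self
    show dec (forceNat c fun d => evalC l (stepC g d)) = _
    rw [forceNat_eq, ih _ (fun h hh => hl h (List.mem_cons_of_mem _ hh)) (small_stepC hg hc),
      dec_stepC hg hc, Matrix.vecMul_vecMul, List.map_cons, List.prod_cons]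

theorem unitC_ok : ((List.range 133).all fun i => (List.range 133).all fun j =>
    Nat.beq (getW 20 (unitC i) j) (bif Nat.beq i j then 1 else 0)) = true := by decide +kernel

theorem getW_unitC {i j : ℕ} (hi : i < 133) (hj : j < 133) :
    getW 20 (unitC i) j = if i = j then 1 else 0 := by
  have h := List.all_eq_true.1 (List.all_eq_true.1 unitC_ok i (List.mem_range.2 hi)) j
    (List.mem_range.2 hj)
  rw [Nat.beq_eq] at h
  rw [h]
  by_cases e : i = j
  · simp [e]
  · rw [if_neg e, show Nat.beq i j = false from Bool.eq_false_iff.2 (by simpa using e)]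
    rfl

theorem dec_unitC (i : Fin 133) : dec (unitC i) = Pi.single i 1 := by
  funext j
  rw [dec, getW_unitC i.2 j.2]
  by_cases e : i = j
  · subst e; simp
  · rw [if_neg (fun h => e (Fin.ext h)), Pi.single_eq_of_ne (Ne.symm e)]
    simp

theorem small_unitC {i : ℕ} (hi : i < 133) : Small (unitC i) := fun j hj => by
  rw [getW_unitC hi hj]
  split_ifs <;> norm_num

/-- The product of a word of matrices is the identity. The first factor is read off as a row. -/
noncomputable def idWord : List ℕ → Bool
  | [] => true
  | g :: l => ((g :: l).all fun h => Nat.blt h 7) &&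
      (List.range 133).all fun i => Nat.beq (evalC l ((RepData.rows g).getD i 0)) (unitC i)

theorem small_row {g i : ℕ} (hg : g < 7) (hi : i < 133) : Small ((RepData.rows g).getD i 0) := by
  obtain ⟨hl, hr⟩ := rows_facts hg
  intro j hj
  refine (hr _ ?_).2 j hj
  rw [List.getD_eq_getElem _ _ (by omega)]
  exact List.getElem_mem _

theorem dec_row (g : ℕ) (i : Fin 133) :
    dec ((RepData.rows g).getD i.1 0) = Matrix.vecMul (Pi.single i 1) (mat g) := by
  rw [Matrix.single_one_vecMul]
  rfl

theorem prod_eq_one {l : List ℕ} (h : idWord l = true) : (l.map mat).prod = 1 := by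
  rcases l with _ | ⟨g, l⟩
  · rfl
  simp only [idWord, Bool.and_eq_true, List.all_eq_true, List.mem_range, Nat.beq_eq, Nat.blt_eq] at h
  refine Matrix.ext fun i j => ?_
  have h1 := evalC_spec l _ (fun x hx => h.1 x (List.mem_cons_of_mem _ hx))
    (small_row (h.1 g List.mem_cons_self) i.2)
  rw [h.2 i i.2, dec_unitC, dec_row, Matrix.vecMul_vecMul, Matrix.single_one_vecMul] at h1
  rw [Matrix.one_apply, List.map_cons, List.prod_cons,
    ← show (mat g * (l.map mat).prod).row i j = (mat g * (l.map mat).prod) i j from rfl, ← h1]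
  by_cases e : i = j
  · subst e; simp
  · rw [if_neg e, Pi.single_eq_of_ne (Ne.symm e)]

theorem pairs_ok : ([[0, 1], [1, 0], [2, 3], [3, 2], [4, 4], [5, 6], [6, 5]].all idWord) = true := by
  decide +kernel

theorem mat_pair {a b : ℕ} (h : [a, b] ∈ ([[0, 1], [1, 0], [2, 3], [3, 2], [4, 4], [5, 6], [6, 5]] : List (List ℕ))) :
    mat a * mat b = 1 := by
  simpa using prod_eq_one (List.all_eq_true.1 pairs_ok _ h)

/-- The column of a signed generator. -/
def colOf : Gen × Bool → ℕ
  | (.x, true) => 0
  | (.x, false) => 1
  | (.y, true) => 2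
  | (.y, false) => 3
  | (.z, _) => 4
  | (.t, true) => 5
  | (.t, false) => 6

/-- The matrix of a generator, as a unit. -/
noncomputable def gen : Gen → (Matrix (Fin 133) (Fin 133) (ZMod 31))ˣ
  | .x => ⟨mat 0, mat 1, mat_pair (by decide), mat_pair (by decide)⟩
  | .y => ⟨mat 2, mat 3, mat_pair (by decide), mat_pair (by decide)⟩
  | .z => ⟨mat 4, mat 4, mat_pair (by decide), mat_pair (by decide)⟩
  | .t => ⟨mat 5, mat 6, mat_pair (by decide), mat_pair (by decide)⟩

theorem gen_val : ∀ p : Gen × Bool,
    ((cond p.2 (gen p.1) (gen p.1)⁻¹ : (Matrix (Fin 133) (Fin 133) (ZMod 31))ˣ) :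
      Matrix (Fin 133) (Fin 133) (ZMod 31)) = mat (colOf p) := by
  rintro ⟨a, b⟩
  cases a <;> cases b <;> rfl

theorem relWords_eq :
    (Spor.HN.extra.map fun r => r.toWord.map colOf) = RepData.relWords := by decide +kernel

theorem rel0 : idWord (RepData.relWords.getD 0 []) = true := by decide +kernel
theorem rel1 : idWord (RepData.relWords.getD 1 []) = true := by decide +kernel
theorem rel2 : idWord (RepData.relWords.getD 2 []) = true := by decide +kernel
theorem rel3 : idWord (RepData.relWords.getD 3 []) = true := by decide +kernel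
theorem rel4 : idWord (RepData.relWords.getD 4 []) = true := by decide +kernel
theorem rel5 : idWord (RepData.relWords.getD 5 []) = true := by decide +kernel
theorem rel6 : idWord (RepData.relWords.getD 6 []) = true := by decide +kernel
theorem rel7 : idWord (RepData.relWords.getD 7 []) = true := by decide +kernel
theorem rel8 : idWord (RepData.relWords.getD 8 []) = true := by decide +kernel
theorem rel9 : idWord (RepData.relWords.getD 9 []) = true := by decide +kernel
theorem rel10 : idWord (RepData.relWords.getD 10 []) = true := by decide +kernel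
theorem rel11 : idWord (RepData.relWords.getD 11 []) = true := by decide +kernel
theorem rel12 : idWord (RepData.relWords.getD 12 []) = true := by decide +kernel
theorem rel13 : idWord (RepData.relWords.getD 13 []) = true := by decide +kernel

theorem relWords_length : RepData.relWords.length = 14 := by decide +kernel

theorem rel_all (l : List ℕ) (hl : l ∈ RepData.relWords) : idWord l = true := by
  obtain ⟨k, hk, rfl⟩ := List.getElem_of_mem hl
  rw [← List.getD_eq_getElem _ [] hk]
  rw [relWords_length] at hk
  interval_cases k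
  exacts [rel0, rel1, rel2, rel3, rel4, rel5, rel6, rel7, rel8, rel9, rel10, rel11, rel12, rel13]

theorem lift_rel {r : FreeGroup Gen} (hr : r ∈ Spor.HN.extra) : FreeGroup.lift gen r = 1 := by
  apply Units.ext
  conv_lhs => rw [← FreeGroup.mk_toWord (x := r), FreeGroup.lift_mk]
  have hmem : r.toWord.map colOf ∈ RepData.relWords := by
    rw [← relWords_eq]
    exact List.mem_map.2 ⟨r, hr, rfl⟩
  have h := prod_eq_one (rel_all _ hmem)
  rw [List.map_map] at h
  rw [← Units.coeHom_apply, map_list_prod, List.map_map, Units.val_one, ← h]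
  congr 1
  exact List.map_congr_left fun p _ => gen_val p

/-- The representation. -/
noncomputable def rho : Spor.HN →* (Matrix (Fin 133) (Fin 133) (ZMod 31))ˣ :=
  PresentedGroup.toGroup (f := gen) fun r hr => by
    rcases hr with ⟨a, ha, -⟩ | hr
    · simp [Spor.coxNodes, Spor.HN.edges] at ha
    · exact lift_rel hr

theorem evalC_x_sq : Nat.beq (evalC [0, 0] (unitC 1)) (unitC 1) = false := by decide +kernel

theorem evalC_x_sq_small : ((List.range 133).all fun j =>
    Nat.blt (getW 20 (evalC [0, 0] (unitC 1)) j) 31) &&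
    Nat.beq (evalC [0, 0] (unitC 1)) (packW 20 (getW 20 (evalC [0, 0] (unitC 1))) 133) = true := by
  decide +kernel

/-- The square of `x` is not trivial. -/
theorem x_sq_ne : (PresentedGroup.of Gen.x : Spor.HN) ^ 2 ≠ 1 := by
  intro e
  have h := congrArg rho e
  rw [map_pow, map_one, rho, PresentedGroup.toGroup.of] at h
  have h' : mat 0 * mat 0 = 1 := by
    have := congrArg Units.val h
    rwa [Units.val_pow_eq_pow_val, pow_two, Units.val_one] at this
  have hv := evalC_spec [0, 0] (unitC ((1 : Fin 133) : ℕ)) (by decide) (small_unitC (by decide))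
  rw [List.map_cons, List.map_cons, List.map_nil, List.prod_cons, List.prod_cons, List.prod_nil,
    mul_one, h', Matrix.vecMul_one] at hv
  have hs := evalC_x_sq_small
  simp only [Bool.and_eq_true, List.all_eq_true, List.mem_range, Nat.beq_eq, Nat.blt_eq, decide_eq_true_iff] at hs
  have hne : evalC [0, 0] (unitC 1) ≠ unitC 1 := fun e' => by
    have h0 := evalC_x_sq
    rw [e', Nat.beq_refl] at h0
    exact Bool.noConfusion h0
  apply hne
  have hu : unitC 1 = packW 20 (getW 20 (unitC 1)) 133 := by decide +kernel
  rw [hs.2, hu]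
  refine packW_congr fun j hj => ?_
  have hj' := congrFun hv ⟨j, hj⟩
  simp only [dec, show ((1 : Fin 133) : ℕ) = 1 from rfl] at hj'
  rw [ZMod.natCast_eq_natCast_iff'] at hj'
  rw [Nat.mod_eq_of_lt (hs.1 j hj), Nat.mod_eq_of_lt (small_unitC (by decide) j hj)] at hj'
  exact hj'

end Cfsg.Agent.Lib.HNSub.Rep
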