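import Cfsg.Agent.Lib.HNSub.Perm100
import Cfsg.Agent.Lib.HNSub.Rep
import Cfsg.Agent.Lib.HSRankThree49.Main
import Cfsg.Agent.Lib.Co3Model.HSMult
import Cfsg.Prelude.Def_SporadicB

/-!
The group presented on `x, y, z` embeds in the presented Harada-Norton group, has order 177408000, and the
normal closure of `y` in it is a non-split double cover of the Higman-Sims group of index two.
-/

set_option autoImplicit false
set_option maxRecDepth 20000

namespace Cfsg.Agent.Lib.HNSub

open Cfsg
open scoped commutatorElement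

/-- The generators in the presented Harada-Norton group satisfy the ten relations. -/
theorem rels_HN : Rels (PresentedGroup.of Spor.HN.Gen.x : Spor.HN) (PresentedGroup.of Spor.HN.Gen.y)
    (PresentedGroup.of Spor.HN.Gen.z) := by
  have h := fun r (hr : r ∈ Spor.HN.extra) =>
    PresentedGroup.one_of_mem
      (rels := Spor.coxRelators Spor.HN.edges ∪ {r | r ∈ Spor.HN.extra}) (.inr hr)
  simp only [Spor.HN.extra, List.forall_mem_cons, List.not_mem_nil, false_implies, implies_true,
    and_true] at h
  obtain ⟨h1, h2, h3, h4, h5, h6, h7, h8, h9, h10, -⟩ := h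
  exact ⟨h1, h2, h3, h4, h5, h6, h7, h8, h9, h10⟩

/-- The map to the presented Harada-Norton group. -/
noncomputable def toHN : F →* Spor.HN := liftF rels_HN

theorem C0_ne_one : C0 ≠ 1 := fun h => by
  have h' := congrArg toHN h
  rw [map_pow, toHN, liftF_X, map_one] at h'
  exact Rep.x_sq_ne h'

theorem G1_index : G1.index = 2 := by
  let q := QuotientGroup.mk' G1
  have hall : ∀ u : F ⧸ G1, u ∈ Subgroup.zpowers (q Z) := by
    have h : (⊤ : Subgroup F).map q ≤ Subgroup.zpowers (q Z) := by
      rw [← closure_gens, MonoidHom.map_closure, Subgroup.closure_le]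
      rintro _ ⟨w, (rfl | rfl | rfl), rfl⟩
      · rw [SetLike.mem_coe, show q X = 1 from (QuotientGroup.eq_one_iff _).2 X_mem]
        exact one_mem _
      · rw [SetLike.mem_coe, show q Y = 1 from (QuotientGroup.eq_one_iff _).2 Y_mem]
        exact one_mem _
      · exact Subgroup.mem_zpowers _
    intro u
    obtain ⟨g, rfl⟩ := QuotientGroup.mk'_surjective G1 u
    exact h ⟨g, trivial, rfl⟩
  have hle : G1.index ≤ 2 := by
    rw [Subgroup.index, ← orderOf_eq_card_of_forall_mem_zpowers hall]
    exact Nat.le_of_dvd (by norm_num)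
      (orderOf_dvd_of_pow_eq_one (by rw [← map_pow, rels_F.r7, map_one]))
  have hne : G1.index ≠ 1 := fun h => by
    rw [Subgroup.index_eq_one] at h
    refine psi_Z_not_mem ?_
    rw [← map_G1, h]
    exact ⟨Z, trivial, rfl⟩
  have hpos : G1.index ≠ 0 := Subgroup.index_ne_zero_of_finite
  omega

theorem G1_commutator : commutator G1 = ⊤ := by
  refine Subgroup.map_injective G1.subtype_injective ?_
  rw [Subgroup.map_subtype_commutator, G1_perfect, ← MonoidHom.range_eq_map, Subgroup.range_subtype]

theorem psi_C0 : psi C0 = 1 := centralizer_trivial fun k hk => by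
  rw [← map_G1] at hk
  obtain ⟨g, -, rfl⟩ := hk
  rw [← map_mul, ← map_mul, Subgroup.mem_center_iff.1 C0_central g]

theorem iso_K0 : Nonempty (K0 ≃* ↥Spor.HS) :=
  HSRankThree49.iso_HS K0_card (by simp) (0 : Fin 100) 18 1 near_card far_card

/-- The map onto the Higman-Sims group. -/
noncomputable def sigma : G1 →* ↥Spor.HS :=
  (Classical.choice iso_K0).toMonoidHom.comp
    ((MulEquiv.subgroupCongr map_G1).toMonoidHom.comp (psi.subgroupMap G1))

theorem sigma_surjective : Function.Surjective sigma :=
  (Classical.choice iso_K0).surjective.comp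
    ((MulEquiv.subgroupCongr map_G1).surjective.comp (psi.subgroupMap_surjective G1))

theorem sigma_eq_one {g : G1} : sigma g = 1 ↔ psi g = 1 := by
  simp only [sigma, MonoidHom.comp_apply, MulEquiv.coe_toMonoidHom, map_eq_one_iff _ (MulEquiv.injective _)]
  rw [← Subtype.val_inj]
  rfl

/-- The square of `x` in the normal closure of `y`. -/
noncomputable def c1 : G1 := ⟨C0, G1.pow_mem X_mem 2⟩

theorem c1_ker : c1 ∈ sigma.ker := sigma_eq_one.2 psi_C0

theorem c1_center : c1 ∈ Subgroup.center G1 :=
  Subgroup.mem_center_iff.2 fun g => Subtype.ext (Subgroup.mem_center_iff.1 C0_central g.1)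

theorem c1_order : orderOf c1 = 2 :=
  orderOf_eq_prime (Subtype.ext ((pow_two _).trans C0_sq)) fun h => C0_ne_one (congrArg Subtype.val h)

theorem card_HS : Nat.card ↥Spor.HS = 44352000 := HSRankThree49.card_HS

theorem card_split : Nat.card G1 = 44352000 * Nat.card sigma.ker := by
  rw [Subgroup.card_eq_card_quotient_mul_card_subgroup sigma.ker,
    Nat.card_congr (QuotientGroup.quotientKerEquivOfSurjective sigma sigma_surjective).toEquiv, card_HS]

theorem card_ker_le : Nat.card sigma.ker ≤ 6 := by
  have h := Subgroup.card_mul_index G1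
  rw [G1_index, card_split] at h
  have := card_F_le.2
  omega

theorem ker_comm (a b : sigma.ker) : a * b = b * a := by
  let C1 : Subgroup sigma.ker := Subgroup.zpowers ⟨c1, c1_ker⟩
  have hcen : C1 ≤ Subgroup.center sigma.ker := Subgroup.zpowers_le.2
    (Subgroup.mem_center_iff.2 fun g => Subtype.ext (Subgroup.mem_center_iff.1 c1_center g.1))
  haveI : C1.Normal := ⟨fun n hn g => by
    rw [Subgroup.mem_center_iff.1 (hcen hn) g, mul_inv_cancel_right]; exact hn⟩
  have h2 : Nat.card C1 = 2 := by
    rw [Nat.card_zpowers, ← Subgroup.orderOf_coe, c1_order]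
  have h3 : Nat.card (sigma.ker ⧸ C1) ≤ 3 := by
    have := Subgroup.card_eq_card_quotient_mul_card_subgroup C1
    have := card_ker_le
    rw [h2] at *
    omega
  haveI : IsCyclic (sigma.ker ⧸ C1) := by
    have hpos := Nat.card_pos (α := sigma.ker ⧸ C1)
    interval_cases hn : Nat.card (sigma.ker ⧸ C1)
    · haveI := (Nat.card_eq_one_iff_unique.1 hn).1
      infer_instance
    · haveI : Fact (Nat.Prime 2) := ⟨Nat.prime_two⟩
      exact isCyclic_of_prime_card hn
    · haveI : Fact (Nat.Prime 3) := ⟨Nat.prime_three⟩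
      exact isCyclic_of_prime_card hn
  exact commutative_of_cyclic_center_quotient (QuotientGroup.mk' C1)
    (by rw [QuotientGroup.ker_mk']; exact hcen) a b

theorem ker_central : sigma.ker ≤ Subgroup.center G1 := by
  haveI := HSRankThree49.isSimple_HS
  let φ : G1 →* MulAut sigma.ker := MulAut.conjNormal
  have hM : sigma.ker ≤ φ.ker := fun m hm => by
    refine MonoidHom.mem_ker.2 (MulEquiv.ext fun a => Subtype.ext ?_)
    show m * a.1 * m⁻¹ = a.1
    have := congrArg Subtype.val (ker_comm ⟨m, hm⟩ a)
    simp only [Subgroup.coe_mul] at this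
    rw [this, mul_inv_cancel_right]
  have htop : φ.ker = ⊤ := by
    have hn : (φ.ker.map sigma).Normal := φ.normal_ker.map sigma sigma_surjective
    have hcm : Subgroup.comap sigma (φ.ker.map sigma) = φ.ker := by
      rw [Subgroup.comap_map_eq, sup_eq_left.2 hM]
    rcases hn.eq_bot_or_eq_top with h | h
    · exfalso
      rw [h, MonoidHom.comap_bot] at hcm
      have h1 : Nat.card (G1 ⧸ φ.ker) = 44352000 := by
        rw [← hcm, Nat.card_congr (QuotientGroup.quotientKerEquivOfSurjective sigma sigma_surjective).toEquiv,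
          card_HS]
      have h2 : Nat.card (G1 ⧸ φ.ker) ≤ Nat.card (MulAut sigma.ker) :=
        Nat.card_le_card_of_injective _ (QuotientGroup.kerLift_injective φ)
      have h3 : Nat.card (MulAut sigma.ker) ≤ Nat.card (Equiv.Perm sigma.ker) :=
        Nat.card_le_card_of_injective MulEquiv.toEquiv fun u v h => MulEquiv.ext fun a => congrFun (congrArg DFunLike.coe h) a
      rw [Nat.card_perm] at h3
      have h4 := h3.trans (Nat.factorial_le card_ker_le)
      rw [show Nat.factorial 6 = 720 from rfl] at h4
      omega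
    · rw [← hcm, h, Subgroup.comap_top]
  intro m hm
  refine Subgroup.mem_center_iff.2 fun g => ?_
  have hg : φ g = 1 := MonoidHom.mem_ker.1 (by rw [htop]; trivial)
  have h0 : φ g ⟨m, hm⟩ = ⟨m, hm⟩ := by rw [hg]; rfl
  have := congrArg Subtype.val h0
  simp only [φ, MulAut.one_apply, MulAut.conjNormal_apply] at this
  exact mul_inv_eq_iff_eq_mul.1 this

theorem card_ker : Nat.card sigma.ker = 2 := by
  have hstem : IsStemExtension sigma :=
    ⟨sigma_surjective, ker_central, by rw [G1_commutator]; exact le_top⟩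
  obtain ⟨-, hmax⟩ := Co3Model.HS.multiplier_HS
  obtain ⟨f, hf⟩ := hmax G1 sigma hstem
  have hle : Nat.card sigma.ker ≤ 2 := by
    have := Nat.card_le_card_of_surjective f hf
    rwa [Nat.card_congr Multiplicative.toAdd, Nat.card_zmod] at this
  have hge : orderOf c1 ∣ Nat.card sigma.ker := by
    rw [show orderOf c1 = orderOf (⟨c1, c1_ker⟩ : sigma.ker) from
      Subgroup.orderOf_coe (⟨c1, c1_ker⟩ : sigma.ker)]
    exact orderOf_dvd_natCard _
  rw [c1_order] at hge
  have := Nat.le_of_dvd Nat.card_pos hge
  omega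

theorem ker_eq : sigma.ker = Subgroup.zpowers c1 :=
  (Subgroup.eq_of_le_of_card_ge (Subgroup.zpowers_le.2 c1_ker)
    (by rw [card_ker, Nat.card_zpowers, c1_order])).symm

theorem center_eq : Subgroup.center G1 = sigma.ker := by
  refine le_antisymm (fun g hg => sigma_eq_one.2 (centralizer_trivial fun k hk => ?_)) ker_central
  rw [← map_G1] at hk
  obtain ⟨h, hh, rfl⟩ := hk
  rw [← map_mul, ← map_mul]
  exact congrArg psi (congrArg Subtype.val (Subgroup.mem_center_iff.1 hg ⟨h, hh⟩))

/-- The normal closure of `y` is a non-split double cover of the Higman-Sims group. -/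
theorem G1_cover : IsNonsplitDoubleCover G1 ↥Spor.HS := by
  refine ⟨by rw [center_eq, card_ker],
    ⟨(QuotientGroup.quotientMulEquivOfEq center_eq).trans
      (QuotientGroup.quotientKerEquivOfSurjective sigma sigma_surjective)⟩, fun L hL => ?_⟩
  have hi : L.index = 2 := by rw [hL.index_eq_card, center_eq, card_ker]
  haveI : L.Normal := Subgroup.normal_of_index_eq_two hi
  have hle : commutator G1 ≤ L := by
    haveI : Fact (Nat.Prime 2) := ⟨Nat.prime_two⟩
    haveI : IsCyclic (G1 ⧸ L) := isCyclic_of_prime_card hi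
    letI : CommGroup (G1 ⧸ L) := IsCyclic.commGroup
    have := Abelianization.commutator_subset_ker (QuotientGroup.mk' L)
    rwa [QuotientGroup.ker_mk'] at this
  rw [G1_commutator, top_le_iff] at hle
  rw [hle, Subgroup.index_top] at hi
  omega

/-- The order of the group on three letters. -/
theorem card_F : Nat.card F = 177408000 := by
  have h := Subgroup.card_mul_index G1
  rw [G1_index, card_split, card_ker] at h
  omega

theorem toHN_injective : Function.Injective toHN := by
  haveI := HSRankThree49.isSimple_HS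
  rw [← MonoidHom.ker_eq_bot_iff]
  let L1 : Subgroup G1 := toHN.ker.subgroupOf G1
  have hL1 : L1 = ⊥ := by
    have hn : (L1.map sigma).Normal := (inferInstance : L1.Normal).map sigma sigma_surjective
    have hc : c1 ∉ L1 := fun h => by
      have h' : toHN C0 = 1 := h
      rw [map_pow, toHN, liftF_X] at h'
      exact Rep.x_sq_ne h'
    rcases hn.eq_bot_or_eq_top with h | h
    · rw [eq_bot_iff]
      intro l hl
      have hk : l ∈ sigma.ker := (Subgroup.map_eq_bot_iff L1).1 h hl
      rw [ker_eq] at hk
      obtain ⟨k, rfl⟩ := Subgroup.mem_zpowers_iff.1 hk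
      rcases Int.even_or_odd' k with ⟨j, rfl | rfl⟩
      · have h2 : c1 ^ 2 = 1 := by rw [← c1_order]; exact pow_orderOf_eq_one _
        rw [Subgroup.mem_bot, zpow_mul, show c1 ^ (2 : ℤ) = 1 from h2, one_zpow]
      · have h2 : c1 ^ 2 = 1 := by rw [← c1_order]; exact pow_orderOf_eq_one _
        rw [zpow_add_one, zpow_mul, show c1 ^ (2 : ℤ) = 1 from h2, one_zpow, one_mul] at hl
        exact absurd hl hc
    · exfalso
      refine hc ?_
      have hq : ∀ u v : G1 ⧸ L1, u * v = v * u := by
        have hsurj : ∀ u : G1 ⧸ L1, ∃ m ∈ Subgroup.center G1, QuotientGroup.mk' L1 m = u := by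
          intro u
          obtain ⟨g, rfl⟩ := QuotientGroup.mk'_surjective L1 u
          have hg : sigma g ∈ L1.map sigma := by rw [h]; trivial
          obtain ⟨l, hl, hlg⟩ := hg
          refine ⟨l⁻¹ * g, ker_central (by rw [MonoidHom.mem_ker, map_mul, map_inv, hlg, inv_mul_cancel]), ?_⟩
          rw [map_mul, map_inv, show QuotientGroup.mk' L1 l = 1 from (QuotientGroup.eq_one_iff _).2 hl,
            inv_one, one_mul]
        intro u v
        obtain ⟨m, hm, rfl⟩ := hsurj u
        obtain ⟨g, rfl⟩ := QuotientGroup.mk'_surjective L1 v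
        rw [← map_mul, ← map_mul, Subgroup.mem_center_iff.1 hm g]
      letI : CommGroup (G1 ⧸ L1) := { (inferInstance : Group (G1 ⧸ L1)) with mul_comm := hq }
      have := Abelianization.commutator_subset_ker (QuotientGroup.mk' L1)
      rw [G1_commutator, QuotientGroup.ker_mk'] at this
      exact this trivial
  rw [eq_bot_iff]
  intro l hl
  have hcomm : ∀ g ∈ G1, g * l = l * g := by
    intro g hg
    have h1 : ⁅g, l⁆ ∈ toHN.ker := by
      rw [MonoidHom.mem_ker, map_commutatorElement, MonoidHom.mem_ker.1 hl, commutatorElement_one_right]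
    have h2 : ⁅g, l⁆ ∈ G1 := by
      rw [commutatorElement_def, show g * l * g⁻¹ * l⁻¹ = g * (l * g⁻¹ * l⁻¹) by group]
      exact G1.mul_mem hg ((inferInstance : G1.Normal).conj_mem _ (G1.inv_mem hg) l)
    have h3 : (⟨_, h2⟩ : G1) ∈ L1 := h1
    rw [hL1, Subgroup.mem_bot] at h3
    exact commutatorElement_eq_one_iff_mul_comm.1 (congrArg Subtype.val h3)
  have hpsi : psi l = 1 := centralizer_trivial fun k hk => by
    rw [← map_G1] at hk
    obtain ⟨g, hg, rfl⟩ := hk
    rw [← map_mul, ← map_mul, hcomm g hg]
  have hl1 : l ∈ G1 := by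
    by_contra hn
    have hZl : Z * l ∈ G1 := (Subgroup.mul_mem_iff_of_index_two G1_index).2
      (iff_of_false (fun hz => psi_Z_not_mem (map_G1 ▸ ⟨Z, hz, rfl⟩)) hn)
    refine psi_Z_not_mem ?_
    have := Subgroup.mem_map_of_mem psi hZl
    rwa [map_G1, map_mul, hpsi, mul_one] at this
  have h3 : (⟨l, hl1⟩ : G1) ∈ L1 := hl
  rw [hL1, Subgroup.mem_bot] at h3
  exact congrArg Subtype.val h3

theorem toHN_range : toHN.range =
    (Subgroup.closure ({Spor.HN.x, Spor.HN.y, Spor.HN.z} : Set (FreeGroup Spor.HN.Gen))).map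
      (PresentedGroup.mk (Spor.coxRelators Spor.HN.edges ∪ {r | r ∈ Spor.HN.extra})) := by
  rw [MonoidHom.range_eq_map, ← closure_gens, MonoidHom.map_closure, MonoidHom.map_closure]
  congr 1
  rw [Set.image_insert_eq, Set.image_insert_eq, Set.image_singleton, Set.image_insert_eq,
    Set.image_insert_eq, Set.image_singleton]
  simp only [toHN, liftF_X, liftF_Y, liftF_Z]
  rfl

/-- The group generated by `x, y, z` in the presented Harada-Norton group is a copy of the presented one. -/
noncomputable def equivN : F ≃*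
    ↥((Subgroup.closure ({Spor.HN.x, Spor.HN.y, Spor.HN.z} : Set (FreeGroup Spor.HN.Gen))).map
      (PresentedGroup.mk (Spor.coxRelators Spor.HN.edges ∪ {r | r ∈ Spor.HN.extra}))) :=
  (MonoidHom.ofInjective toHN_injective).trans (MulEquiv.subgroupCongr toHN_range)

end Cfsg.Agent.Lib.HNSub
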