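import Cfsg.Agent.Lib.HNSub.Three
import Cfsg.Agent.Lib.HNSub.Data100

/-!
The action on 100 points: the image of the normal closure of `y` has order 44352000, index two in the
image of the whole group, rank three with suborbits of lengths 22 and 77, and trivial centraliser.
-/

set_option autoImplicit false
set_option maxRecDepth 20000

namespace Cfsg.Agent.Lib.HNSub

open Cfsg.Agent.Lib.Computation
open Chain100 (k_gens k_chain k_steps k_check masks nbTree farTree genCodes invCodes)

/-- The packed representation. -/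
noncomputable abbrev R : Rep (Equiv.Perm (Fin 100)) (Fin 100) := permRep 100 7 (by decide)

theorem R_val (c : ℕ) : R.val c = decodeP 100 7 c := rfl

/-- The code of a signed letter. -/
def code : G3 × Bool → ℕ
  | (.x, true) => genCodes.getD 0 0
  | (.y, true) => genCodes.getD 1 0
  | (.z, true) => genCodes.getD 2 0
  | (.x, false) => invCodes.getD 0 0
  | (.y, false) => invCodes.getD 1 0
  | (.z, false) => invCodes.getD 2 0

/-- All signed letters. -/
def signed : List (G3 × Bool) :=
  [(.x, true), (.y, true), (.z, true), (.x, false), (.y, false), (.z, false)]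

theorem mem_signed : ∀ p, p ∈ signed := by
  rintro ⟨a, b⟩
  cases a <;> cases b <;> decide

theorem code_check : (signed.all fun p => okPerm 100 7 (code p) &&
    Nat.beq (mulP 100 7 (code (p.1, !p.2)) (code p)) R.one) = true := by decide +kernel

theorem code_ok (p : G3 × Bool) : okPerm 100 7 (code p) = true := by
  have h := List.all_eq_true.1 code_check p (mem_signed p)
  simp only [Bool.and_eq_true] at h
  exact h.1

/-- The permutation of a letter. -/
noncomputable def gen (a : G3) : Equiv.Perm (Fin 100) := decodeP 100 7 (code (a, true))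

theorem decode_code : ∀ p : G3 × Bool, decodeP 100 7 (code p) = cond p.2 (gen p.1) (gen p.1)⁻¹ := by
  rintro ⟨a, b⟩
  cases b
  · refine eq_inv_of_mul_eq_one_left ?_
    have h := List.all_eq_true.1 code_check _ (mem_signed (a, true))
    simp only [Bool.and_eq_true] at h
    have e := R.beq_sound (okPerm_mulP (code_ok _) (code_ok _)) R.ok_one h.2
    rw [R.val_one] at e
    exact (decodeP_mulP (code_ok _) (code_ok _)).symm.trans e
  · rfl

/-- The code of a word. -/
noncomputable def wordC (l : List (G3 × Bool)) : ℕ :=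
  l.foldr (fun p acc => mulP 100 7 (code p) acc) R.one

theorem wordC_spec : ∀ l : List (G3 × Bool), okPerm 100 7 (wordC l) = true ∧
    decodeP 100 7 (wordC l) = FreeGroup.lift gen (FreeGroup.mk l) := by
  intro l
  induction l with
  | nil => exact ⟨R.ok_one, R.val_one.trans (by rw [FreeGroup.lift_mk]; rfl)⟩
  | cons p l ih =>
    refine ⟨okPerm_mulP (code_ok p) ih.1, ?_⟩
    show decodeP 100 7 (mulP 100 7 (code p) (wordC l)) = _
    rw [decodeP_mulP (code_ok p) ih.1, ih.2, decode_code, FreeGroup.lift_mk, FreeGroup.lift_mk,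
      List.map_cons, List.prod_cons]

theorem rels_check : (rels3.all fun r => Nat.beq (wordC r.toWord) R.one) = true := by decide +kernel

/-- The action on 100 points. -/
noncomputable def psi : F →* Equiv.Perm (Fin 100) :=
  PresentedGroup.toGroup (f := gen) fun r hr => by
    have h := R.beq_sound (wordC_spec r.toWord).1 R.ok_one (List.all_eq_true.1 rels_check r hr)
    rw [R.val_one] at h
    rw [← FreeGroup.mk_toWord (x := r), ← (wordC_spec r.toWord).2]
    exact h

theorem psi_mk (r : FreeGroup G3) :
    psi (PresentedGroup.mk _ r) = decodeP 100 7 (wordC r.toWord) := by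
  rw [(wordC_spec r.toWord).2, FreeGroup.mk_toWord]
  rfl

theorem psi_of (a : G3) : psi (PresentedGroup.of a) = gen a := PresentedGroup.toGroup.of _

/-- The image of the normal closure of `y`. -/
noncomputable def K0 : Subgroup (Equiv.Perm (Fin 100)) := R.grp k_chain

theorem chain_ok : R.checkChain k_chain = true := R.checkChain_of_checkClosure k_check

theorem K0_eq : K0 = Subgroup.closure (R.val '' {s | s ∈ k_gens}) :=
  (R.closure_eq_grp k_check).symm

theorem K0_card : Nat.card K0 = 44352000 := by
  rw [K0, R.card_grp chain_ok]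
  decide +kernel

theorem gens_check : k_gens = [wordC [(.y, true)], wordC [(.x, true), (.y, true), (.x, false)],
    wordC [(.z, true), (.y, true), (.z, false)]] := by decide +kernel

theorem gens_ok : ∀ s ∈ k_gens, okPerm 100 7 s = true := by
  rw [gens_check]
  simp only [List.forall_mem_cons, List.not_mem_nil, false_implies, implies_true, and_true]
  exact ⟨(wordC_spec _).1, (wordC_spec _).1, (wordC_spec _).1⟩

theorem normal_check : (signed.all fun p => k_gens.all fun s =>
    R.sift k_chain (mulP 100 7 (code p) (mulP 100 7 s (code (p.1, !p.2))))) = true := by decide +kernel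

theorem gen_mem_normalizer (a : G3) : gen a ∈ Subgroup.normalizer (K0 : Set (Equiv.Perm (Fin 100))) := by
  have key : ∀ p : G3 × Bool, ∀ k ∈ K0,
      decodeP 100 7 (code p) * k * (decodeP 100 7 (code p))⁻¹ ∈ K0 := by
    intro p k hk
    have hp : (decodeP 100 7 (code p))⁻¹ = decodeP 100 7 (code (p.1, !p.2)) := by
      rw [decode_code, decode_code]
      rcases p with ⟨_, b⟩
      cases b <;> simp
    have hle : K0.map (MulAut.conj (decodeP 100 7 (code p))).toMonoidHom ≤ K0 := by
      conv_lhs => rw [K0_eq]
      rw [MonoidHom.map_closure, Subgroup.closure_le]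
      rintro _ ⟨_, ⟨s, hs, rfl⟩, rfl⟩
      have h := List.all_eq_true.1 (List.all_eq_true.1 normal_check p (mem_signed p)) s hs
      have h2 := okPerm_mulP (gens_ok s hs) (code_ok (p.1, !p.2))
      have h' := R.mem_grp_of_sift chain_ok (okPerm_mulP (code_ok p) h2) h
      change decodeP 100 7 (mulP 100 7 _ _) ∈ K0 at h'
      rw [decodeP_mulP (code_ok p) h2, decodeP_mulP (gens_ok s hs) (code_ok _), ← hp, ← mul_assoc] at h'
      exact h'
    exact hle ⟨k, hk, rfl⟩
  refine Subgroup.mem_normalizer_iff.2 fun k => ⟨fun hk => ?_, fun hk => ?_⟩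
  · exact key (a, true) k hk
  · have := key (a, false) _ hk
    rw [decode_code] at this
    simp only [cond_false, inv_inv] at this
    have e : (gen a)⁻¹ * (gen a * k * (gen a)⁻¹) * gen a = k := by group
    rwa [e] at this

theorem psi_mem_normalizer (g : F) : psi g ∈ Subgroup.normalizer (K0 : Set (Equiv.Perm (Fin 100))) := by
  have h : g ∈ Subgroup.closure ({X, Y, Z} : Set F) := by rw [closure_gens]; trivial
  refine (Subgroup.closure_le (K := (Subgroup.normalizer (K0 : Set (Equiv.Perm (Fin 100)))).comap psi)).2 ?_ h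
  rintro _ (rfl | rfl | rfl) <;>
  · rw [SetLike.mem_coe, Subgroup.mem_comap, psi_of]
    exact gen_mem_normalizer _

theorem map_G1 : G1.map psi = K0 := by
  have hY : psi Y ∈ K0 := by
    rw [K0_eq]
    refine Subgroup.subset_closure ⟨wordC [(.y, true)], by rw [Set.mem_setOf_eq, gens_check]; simp, ?_⟩
    rw [R_val]
    rw [(wordC_spec _).2, psi_of, FreeGroup.lift_mk]
    simp
  refine le_antisymm ?_ ?_
  · haveI : (K0.comap psi).Normal := ⟨fun n hn g => by
      rw [Subgroup.mem_comap, map_mul, map_mul, map_inv]
      exact (Subgroup.mem_normalizer_iff.1 (psi_mem_normalizer g) _).1 hn⟩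
    refine Subgroup.map_le_iff_le_comap.2 (Subgroup.normalClosure_le_normal ?_)
    rintro _ rfl
    exact hY
  · rw [K0_eq, Subgroup.closure_le]
    rintro _ ⟨s, hs, rfl⟩
    rw [Set.mem_setOf_eq, gens_check] at hs
    have conjY : ∀ g : F, g * Y * g⁻¹ ∈ G1 := fun g =>
      (inferInstance : G1.Normal).conj_mem Y Y_mem g
    simp only [List.mem_cons, List.not_mem_nil, or_false] at hs
    rcases hs with rfl | rfl | rfl
    · refine ⟨Y, Y_mem, ?_⟩
      rw [R_val]
      rw [(wordC_spec _).2, psi_of, FreeGroup.lift_mk]; simp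
    · refine ⟨X * Y * X⁻¹, conjY X, ?_⟩
      rw [R_val]
      rw [(wordC_spec _).2, map_mul, map_mul, map_inv, psi_of, psi_of, FreeGroup.lift_mk]
      simp [mul_assoc]
    · refine ⟨Z * Y * Z⁻¹, conjY Z, ?_⟩
      rw [R_val]
      rw [(wordC_spec _).2, map_mul, map_mul, map_inv, psi_of, psi_of, FreeGroup.lift_mk]
      simp [mul_assoc]

theorem z_check : ((List.range 100).any fun x => R.siftFail k_chain (code (.z, true)) x) = true := by
  decide +kernel

theorem psi_Z_not_mem : psi Z ∉ K0 := by
  obtain ⟨x, -, hx⟩ := List.any_eq_true.1 z_check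
  rw [psi_of]
  exact R.notMem_grp_of_siftFail chain_ok (code_ok _) hx

theorem k_cons : ∃ L : Level ℕ, k_chain = L :: k_chain.tail ∧ L.base = 0 ∧ L.orb.toList.length = 100 :=
  ⟨_, rfl, by decide +kernel, by decide +kernel⟩

instance : MulAction.IsPretransitive K0 (Fin 100) := by
  obtain ⟨L, hL, hb, hn⟩ := k_cons
  have hc : (permRep 100 7 (by decide)).checkChain (L :: k_chain.tail) = true := by
    rw [← hL]; exact chain_ok
  refine ⟨fun i j => ?_⟩
  obtain ⟨g, hg, hgi⟩ := exists_apply_base_eq hc hn i
  obtain ⟨h, hh, hhj⟩ := exists_apply_base_eq hc hn j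
  rw [← hL] at hg hh
  refine ⟨⟨h * g⁻¹, K0.mul_mem hh (K0.inv_mem hg)⟩, ?_⟩
  show (h * g⁻¹) i = j
  rw [← hgi]
  simpa using hhj

/-- Adjacency in the invariant graph. -/
def adj (i j : ℕ) : Bool := Nat.beq (Nat.mod (Nat.shiftRight (masks.getD i 0) j) 2) 1

theorem adj_check : (k_gens.all fun g => (List.range 100).all fun i => (List.range 100).all fun j =>
    adj (getW 7 g i) (getW 7 g j) == adj i j) = true := by decide +kernel

theorem adj_invariant {σ : Equiv.Perm (Fin 100)} (hσ : σ ∈ K0) :
    ∀ i j : Fin 100, adj (σ i) (σ j) = adj i j := by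
  rw [K0_eq] at hσ
  induction hσ using Subgroup.closure_induction with
  | mem w hw =>
    obtain ⟨s, hs, rfl⟩ := hw
    intro i j
    have h := List.all_eq_true.1 (List.all_eq_true.1 (List.all_eq_true.1 adj_check s hs) i
      (List.mem_range.2 i.2)) j (List.mem_range.2 j.2)
    show adj (decodeP 100 7 s i) (decodeP 100 7 s j) = _
    rw [decodeP_apply (gens_ok s hs), decodeP_apply (gens_ok s hs)]
    exact beq_iff_eq.1 h
  | one => intro i j; rfl
  | mul u v _ _ hu hv => intro i j; exact (hu _ _).trans (hv i j)
  | inv u _ hu =>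
    intro i j
    have := hu (u⁻¹ i) (u⁻¹ j)
    simp only [Equiv.Perm.coe_inv, Equiv.apply_symm_apply] at this ⊢
    exact this.symm

/-- A breadth-first tree of an orbit. -/
def treeOK (gens : List ℕ) (T : List (ℕ × ℕ × ℕ)) : Bool :=
  (List.range T.length).all fun k => Nat.blt (T.getD k (0, 0, 0)).1 100 &&
    (Nat.beq k 0 || (Nat.blt (T.getD k (0, 0, 0)).2.1 k && Nat.blt (T.getD k (0, 0, 0)).2.2 gens.length &&
      Nat.beq (T.getD k (0, 0, 0)).1
        (getW 7 (gens.getD (T.getD k (0, 0, 0)).2.2 0) (T.getD (T.getD k (0, 0, 0)).2.1 (0, 0, 0)).1)))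

/-- The stabiliser of the first point. -/
noncomputable abbrev St : Subgroup K0 := MulAction.stabilizer K0 (0 : Fin 100)

theorem stab_gens_ok : ((R.topGens k_chain.tail).all fun s => okPerm 100 7 s) = true := by
  decide +kernel

theorem tree_orbit {T : List (ℕ × ℕ × ℕ)} (h : treeOK (R.topGens k_chain.tail) T = true) :
    ∀ k < T.length, ∀ (i : Fin 100), i.1 = (T.getD k (0, 0, 0)).1 →
      ∀ r : Fin 100, r.1 = (T.getD 0 (0, 0, 0)).1 → i ∈ MulAction.orbit St r := by
  obtain ⟨L, hL, hb, hn⟩ := k_cons
  intro k
  induction k using Nat.strong_induction_on with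
  | _ k ih =>
    intro hk i hi r hr
    have hh := List.all_eq_true.1 h k (List.mem_range.2 hk)
    simp only [Bool.and_eq_true, Bool.or_eq_true, Nat.beq_eq, Nat.blt_eq] at hh
    rcases hh with ⟨-, rfl | ⟨⟨hp, hg⟩, he⟩⟩
    · rw [show i = r from Fin.ext (hi.trans hr.symm)]
      exact MulAction.mem_orbit_self r
    · have hk' : (T.getD k (0, 0, 0)).2.1 < T.length := hp.trans hk
      have hj := List.all_eq_true.1 h _ (List.mem_range.2 hk')
      simp only [Bool.and_eq_true, Nat.blt_eq] at hj
      obtain ⟨⟨g, hgst⟩, hgr⟩ := ih _ hp hk' ⟨_, hj.1⟩ rfl r hr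
      have hs : (R.topGens k_chain.tail).getD (T.getD k (0, 0, 0)).2.2 0 ∈ R.topGens k_chain.tail := by
        rw [List.getD_eq_getElem _ _ hg]; exact List.getElem_mem _
      generalize hsd : (R.topGens k_chain.tail).getD (T.getD k (0, 0, 0)).2.2 0 = s at hs he
      have hok : okPerm 100 7 s = true := List.all_eq_true.1 stab_gens_ok s hs
      have hmem : R.val s ∈ R.grp k_chain.tail := R.val_mem_grp hs
      have hc : R.checkChain (L :: k_chain.tail) = true := by rw [← hL]; exact chain_ok
      have hfix := R.fix_base hc hmem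
      rw [hb] at hfix
      have hK : R.val s ∈ K0 := by
        rw [K0, hL]; exact R.grp_tail_le hc hmem
      refine ⟨(⟨⟨R.val s, hK⟩, hfix⟩ : St) * ⟨g, hgst⟩, ?_⟩
      simp only [mul_smul] at hgr ⊢
      rw [hgr]
      refine Fin.ext ?_
      show ((decodeP 100 7 s) ⟨_, hj.1⟩).1 = i.1
      rw [decodeP_apply hok, hi]
      exact he.symm

theorem nb_check : treeOK (R.topGens k_chain.tail) nbTree = true := by decide +kernel
theorem far_check : treeOK (R.topGens k_chain.tail) farTree = true := by decide +kernel

theorem cover_check : ((List.range 100).all fun i => Nat.beq i 0 ||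
    bif adj 0 i then (nbTree.map (·.1)).contains i else (farTree.map (·.1)).contains i) = true := by
  decide +kernel

theorem orbit_of_tree {T : List (ℕ × ℕ × ℕ)} (h : treeOK (R.topGens k_chain.tail) T = true)
    {i r : Fin 100} (hr : r.1 = (T.getD 0 (0, 0, 0)).1) (hi : i.1 ∈ T.map (·.1)) :
    i ∈ MulAction.orbit St r := by
  obtain ⟨e, he, hei⟩ := List.mem_map.1 hi
  obtain ⟨k, hk, rfl⟩ := List.getElem_of_mem he
  exact tree_orbit h k hk i (by rw [List.getD_eq_getElem _ _ hk]; exact hei.symm) r hr

theorem stab_fix (g : St) : (g : K0).1 0 = 0 := g.2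

theorem near_orbit : MulAction.orbit St (18 : Fin 100) = {i : Fin 100 | adj 0 i = true} := by
  ext i
  constructor
  · rintro ⟨g, rfl⟩
    show adj 0 ((g : K0).1 18).1 = true
    have := adj_invariant (g : K0).2 0 18
    rw [stab_fix g] at this
    exact this.trans (by decide +kernel)
  · intro hi
    have h := List.all_eq_true.1 cover_check i.1 (List.mem_range.2 i.2)
    simp only [Bool.or_eq_true, Nat.beq_eq] at h
    rcases h with h | h
    · rw [show i = 0 from Fin.ext h] at hi
      exact absurd hi (by decide +kernel)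
    · rw [show adj 0 i.1 = true from hi, cond_true, List.contains_eq_mem, decide_eq_true_iff] at h
      exact orbit_of_tree nb_check (by decide +kernel) h

theorem far_orbit : MulAction.orbit St (1 : Fin 100) = {i : Fin 100 | i ≠ 0 ∧ adj 0 i = false} := by
  ext i
  constructor
  · rintro ⟨g, rfl⟩
    refine ⟨fun e => ?_, ?_⟩
    · have h0 : (g : K0).1 1 = (g : K0).1 0 := e.trans (stab_fix g).symm
      exact absurd ((g : K0).1.injective h0) (by decide)
    · show adj 0 ((g : K0).1 1).1 = false
      have := adj_invariant (g : K0).2 0 1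
      rw [stab_fix g] at this
      exact this.trans (by decide +kernel)
  · rintro ⟨h0, hi⟩
    have h := List.all_eq_true.1 cover_check i.1 (List.mem_range.2 i.2)
    simp only [Bool.or_eq_true, Nat.beq_eq] at h
    rcases h with h | h
    · exact absurd (Fin.ext h) h0
    · rw [hi, cond_false, List.contains_eq_mem, decide_eq_true_iff] at h
      exact orbit_of_tree far_check (by decide +kernel) h

theorem near_card : (MulAction.orbit St (18 : Fin 100)).ncard = 22 := by
  rw [near_orbit, Set.ncard_eq_toFinset_card']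
  decide +kernel

theorem far_card : (MulAction.orbit St (1 : Fin 100)).ncard = 77 := by
  rw [far_orbit, Set.ncard_eq_toFinset_card']
  decide +kernel

theorem centralizer_trivial {σ : Equiv.Perm (Fin 100)} (h : ∀ k ∈ K0, k * σ = σ * k) : σ = 1 := by
  have hfix : ∀ g : St, (g : K0).1 (σ 0) = σ 0 := fun g => by
    have := congrFun (congrArg DFunLike.coe (h _ (g : K0).2)) 0
    simp only [Equiv.Perm.mul_apply] at this
    rw [stab_fix g] at this
    exact this
  have hsingle : MulAction.orbit St (σ 0) = {σ 0} := by
    ext i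
    exact ⟨fun ⟨g, hg⟩ => hg.symm.trans (hfix g), fun hi => hi ▸ MulAction.mem_orbit_self _⟩
  have h0 : σ 0 = 0 := by
    by_contra hne
    cases ha : adj 0 (σ 0).1
    · have hm : σ 0 ∈ MulAction.orbit St (1 : Fin 100) := by rw [far_orbit]; exact ⟨hne, ha⟩
      have := far_card
      rw [← MulAction.orbit_eq_iff.2 hm, hsingle, Set.ncard_singleton] at this
      omega
    · have hm : σ 0 ∈ MulAction.orbit St (18 : Fin 100) := by rw [near_orbit]; exact ha
      have := near_card
      rw [← MulAction.orbit_eq_iff.2 hm, hsingle, Set.ncard_singleton] at this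
      omega
  refine Equiv.ext fun i => ?_
  obtain ⟨k, rfl⟩ := MulAction.exists_smul_eq K0 (0 : Fin 100) i
  have := congrFun (congrArg DFunLike.coe (h k.1 k.2)) 0
  simp only [Equiv.Perm.mul_apply, h0] at this
  exact this.symm

end Cfsg.Agent.Lib.HNSub
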