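import Cfsg.Agent.Lib.CosetEnum.Chain

/-! An auxiliary presentation on five letters for the quotient of the group on `x, y, z` by the
central square of `x`; `v` stands for the conjugate of `y` by `x` and `w` for the cube of `v`. -/

set_option autoImplicit false
set_option maxRecDepth 20000
set_option Elab.async false

namespace Cfsg.Agent.Lib.HNSub

open Cfsg.Agent.Lib.CosetEnum

/-- The five letters. -/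
inductive Gen
  | x
  | y
  | z
  | v
  | w
  deriving DecidableEq

/-- The signed letter of a column. -/
def symOf (g : ℕ) : Gen × Bool := [(Gen.x, true), (Gen.y, true), (Gen.y, false), (Gen.z, true), (Gen.v, true), (Gen.v, false), (Gen.w, true)].getD g (Gen.x, true)

/-- The relators as lists of columns. -/
def relLists : List (List ℕ) := [[1, 1, 1, 1, 1, 1],
    [0, 0, 1, 0, 0, 2],
    [0, 2, 0, 1, 0, 2, 0, 1, 0, 2, 0, 1],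
    [0, 1, 1, 0, 1, 1, 1, 0, 1, 1, 0, 1, 1, 1, 0, 1, 1, 0, 1, 1, 1],
    [0, 1, 0, 1, 0, 1, 0, 1, 0, 1, 0, 1, 0, 1, 0, 1],
    [0, 1, 0, 1, 1, 1, 0, 1, 0, 1, 1, 1, 0, 1, 0, 1, 1, 1, 0, 1, 0, 1, 1, 1],
    [3, 0, 3, 0],
    [3, 1, 0, 2, 2, 0, 2, 0, 2, 3, 1, 0, 1, 0, 1, 1, 0, 2, 0, 0],
    [3, 2, 0, 2, 0, 2, 2, 2, 3, 1, 1, 1, 0, 1, 0, 1, 0, 2, 0, 2, 0, 2, 2, 2, 3, 1, 1, 1, 0, 1, 0, 1, 0, 2, 0, 2, 0, 2, 2, 2, 3, 1, 1, 1, 0, 1, 0, 1, 0],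
    [0, 1, 0, 5],
    [4, 4, 4, 6],
    [4, 4, 4, 4, 4, 4],
    [2, 4, 2, 4, 2, 4],
    [4, 4, 1, 1, 1, 4, 4, 1, 1, 1, 4, 4, 1, 1, 1],
    [1, 1, 4, 4, 4, 1, 1, 4, 4, 4, 1, 1, 4, 4, 4],
    [4, 1, 1, 1, 4, 1, 1, 1, 4, 1, 1, 1, 4, 1, 1, 1],
    [1, 4, 4, 4, 1, 4, 4, 4, 1, 4, 4, 4, 1, 4, 4, 4],
    [4, 1, 4, 1, 4, 1, 4, 1],
    [1, 1, 6, 1, 1, 6, 1, 1, 6],
    [1, 6, 1, 6, 1, 6, 1, 6],
    [0, 0],
    [3, 3],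
    [6, 6]]

/-- The letters. -/
noncomputable def letters : Letters Gen where
  K := 7
  IV := 0x3988518440
  sym := symOf
  col a := match a with
    | .x => 0
    | .y => 1
    | .z => 3
    | .v => 4
    | .w => 6
  RL := [[],
    [1, 1, 1, 1, 1, 1],
    [0, 0, 1, 0, 0, 2],
    [0, 2, 0, 1, 0, 2, 0, 1, 0, 2, 0, 1],
    [0, 1, 1, 0, 1, 1, 1, 0, 1, 1, 0, 1, 1, 1, 0, 1, 1, 0, 1, 1, 1],
    [0, 1, 0, 1, 0, 1, 0, 1, 0, 1, 0, 1, 0, 1, 0, 1],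
    [0, 1, 0, 1, 1, 1, 0, 1, 0, 1, 1, 1, 0, 1, 0, 1, 1, 1, 0, 1, 0, 1, 1, 1],
    [3, 0, 3, 0],
    [3, 1, 0, 2, 2, 0, 2, 0, 2, 3, 1, 0, 1, 0, 1, 1, 0, 2, 0, 0],
    [3, 2, 0, 2, 0, 2, 2, 2, 3, 1, 1, 1, 0, 1, 0, 1, 0, 2, 0, 2, 0, 2, 2, 2, 3, 1, 1, 1, 0, 1, 0, 1, 0, 2, 0, 2, 0, 2, 2, 2, 3, 1, 1, 1, 0, 1, 0, 1, 0],
    [0, 1, 0, 5],
    [4, 4, 4, 6],
    [4, 4, 4, 4, 4, 4],
    [2, 4, 2, 4, 2, 4],
    [4, 4, 1, 1, 1, 4, 4, 1, 1, 1, 4, 4, 1, 1, 1],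
    [1, 1, 4, 4, 4, 1, 1, 4, 4, 4, 1, 1, 4, 4, 4],
    [4, 1, 1, 1, 4, 1, 1, 1, 4, 1, 1, 1, 4, 1, 1, 1],
    [1, 4, 4, 4, 1, 4, 4, 4, 1, 4, 4, 4, 1, 4, 4, 4],
    [4, 1, 4, 1, 4, 1, 4, 1],
    [1, 1, 6, 1, 1, 6, 1, 1, 6],
    [1, 6, 1, 6, 1, 6, 1, 6],
    [0, 0],
    [1, 2],
    [2, 1],
    [3, 3],
    [4, 5],
    [5, 4],
    [6, 6]]
  rels := relLists.map fun l => FreeGroup.mk (l.map symOf)

/-- The relator set. -/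
abbrev pres : Set (FreeGroup Gen) := {r | r ∈ relLists.map fun l => FreeGroup.mk (l.map symOf)}

theorem rels_mem : ∀ r ∈ letters.rels, r ∈ pres := fun _ h => h

theorem letters_ok : letters.OK := by unfold Letters.OK; decide +kernel

theorem letters_col : ∀ a, letters.col a < letters.K ∧ letters.sym (letters.col a) = (a, true) := by
  intro a; cases a <;> exact ⟨by decide +kernel, rfl⟩

end Cfsg.Agent.Lib.HNSub
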