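import Cfsg.Agent.Lib.HNSub.EnumA
import Cfsg.Prelude.Def_Spor_HN
import Mathlib.GroupTheory.Commutator.Basic

/-!
The group presented on `x, y, z` by the first ten relators of the Harada-Norton presentation: the normal
closure of `y` is perfect and contains `x`, the square of `x` is a central element of order at most two,
and the order is at most 532224000.
-/

set_option autoImplicit false
set_option maxRecDepth 20000
set_option linter.unusedSimpArgs false

namespace Cfsg.Agent.Lib.HNSub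

open Cfsg
open scoped commutatorElement

/-- The three letters. -/
inductive G3
  | x
  | y
  | z
  deriving DecidableEq

namespace G3

/-- The letter as a word. -/
abbrev fx : FreeGroup G3 := FreeGroup.of G3.x
/-- The letter as a word. -/
abbrev fy : FreeGroup G3 := FreeGroup.of G3.y
/-- The letter as a word. -/
abbrev fz : FreeGroup G3 := FreeGroup.of G3.z

end G3

open G3 in
/-- The ten relators. -/
def rels3 : List (FreeGroup G3) := [
  fy ^ 6,
  (fx ^ 2) * fy * (fx ^ 2) * (fy⁻¹),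
  (fx⁻¹ * fy⁻¹ * fx * fy) ^ 3,
  ((fx⁻¹) * (fy ^ 2) * fx * (fy ^ 3)) ^ 3,
  (fx * fy) ^ 8,
  (fx * fy * fx * (fy ^ 3)) ^ 4,
  fz ^ 2,
  (fz * fx) ^ 2,
  (fz⁻¹ * (fy * fx * fy * fx * (fy ^ 2) * fx * (fy⁻¹))⁻¹ * fz *
    (fy * fx * fy * fx * (fy ^ 2) * fx * (fy⁻¹))) * ((fx ^ 2)⁻¹),
  fz * (((((fy ^ 3) * fx * fy * fx * fy)⁻¹ * fz * ((fy ^ 3) * fx * fy * fx * fy)) * fx) ^ 3)]

/-- The ten relations. -/
structure Rels {Q : Type*} [Group Q] (a b c : Q) : Prop where
  r1 : b ^ 6 = 1
  r2 : a ^ 2 * b * a ^ 2 * b⁻¹ = 1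
  r3 : (a⁻¹ * b⁻¹ * a * b) ^ 3 = 1
  r4 : (a⁻¹ * b ^ 2 * a * b ^ 3) ^ 3 = 1
  r5 : (a * b) ^ 8 = 1
  r6 : (a * b * a * b ^ 3) ^ 4 = 1
  r7 : c ^ 2 = 1
  r8 : (c * a) ^ 2 = 1
  r9 : (c⁻¹ * (b * a * b * a * b ^ 2 * a * b⁻¹)⁻¹ * c * (b * a * b * a * b ^ 2 * a * b⁻¹)) *
    (a ^ 2)⁻¹ = 1
  r10 : c * (((b ^ 3 * a * b * a * b)⁻¹ * c * (b ^ 3 * a * b * a * b)) * a) ^ 3 = 1

theorem Rels.map {Q R : Type*} [Group Q] [Group R] {a b c : Q} (h : Rels a b c) (f : Q →* R) :
    Rels (f a) (f b) (f c) := by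
  obtain ⟨h1, h2, h3, h4, h5, h6, h7, h8, h9, h10⟩ := h
  constructor
  all_goals first
    | simpa using congrArg f h1
    | simpa using congrArg f h2
    | simpa using congrArg f h3
    | simpa using congrArg f h4
    | simpa using congrArg f h5
    | simpa using congrArg f h6
    | simpa using congrArg f h7
    | simpa using congrArg f h8
    | simpa using congrArg f h9
    | simpa using congrArg f h10

/-- The group on three letters. -/
abbrev F : Type := PresentedGroup {r : FreeGroup G3 | r ∈ rels3}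

/-- The first generator. -/
noncomputable abbrev X : F := PresentedGroup.of G3.x
/-- The second generator. -/
noncomputable abbrev Y : F := PresentedGroup.of G3.y
/-- The third generator. -/
noncomputable abbrev Z : F := PresentedGroup.of G3.z

theorem mk_of (a : G3) : PresentedGroup.mk {r : FreeGroup G3 | r ∈ rels3} (FreeGroup.of a) =
    PresentedGroup.of a := rfl

theorem rels_F : Rels X Y Z := by
  have h := fun r (hr : r ∈ rels3) =>
    PresentedGroup.one_of_mem (rels := {r : FreeGroup G3 | r ∈ rels3}) hr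
  simp only [rels3, List.forall_mem_cons, List.not_mem_nil, false_implies, implies_true, and_true,
    map_mul, map_pow, map_inv, mk_of] at h
  obtain ⟨h1, h2, h3, h4, h5, h6, h7, h8, h9, h10⟩ := h
  exact ⟨h1, h2, h3, h4, h5, h6, h7, h8, h9, h10⟩

/-- The homomorphism given by three elements satisfying the relations. -/
noncomputable def liftF {Q : Type*} [Group Q] {a b c : Q} (h : Rels a b c) : F →* Q :=
  PresentedGroup.toGroup (f := fun g => match g with | .x => a | .y => b | .z => c) fun r hr => by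
    obtain ⟨h1, h2, h3, h4, h5, h6, h7, h8, h9, h10⟩ := h
    simp only [rels3, Set.mem_setOf_eq, List.mem_cons, List.not_mem_nil, or_false] at hr
    rcases hr with rfl | rfl | rfl | rfl | rfl | rfl | rfl | rfl | rfl | rfl <;>
      simp only [map_mul, map_pow, map_inv, FreeGroup.lift_apply_of] <;> assumption

@[simp] theorem liftF_X {Q : Type*} [Group Q] {a b c : Q} (h : Rels a b c) : liftF h X = a :=
  PresentedGroup.toGroup.of _
@[simp] theorem liftF_Y {Q : Type*} [Group Q] {a b c : Q} (h : Rels a b c) : liftF h Y = b :=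
  PresentedGroup.toGroup.of _
@[simp] theorem liftF_Z {Q : Type*} [Group Q] {a b c : Q} (h : Rels a b c) : liftF h Z = c :=
  PresentedGroup.toGroup.of _

theorem closure_gens : Subgroup.closure ({X, Y, Z} : Set F) = ⊤ := by
  refine top_le_iff.1 ((PresentedGroup.closure_range_of _).symm.le.trans (Subgroup.closure_mono ?_))
  rintro _ ⟨g, rfl⟩
  cases g <;> simp [X, Y, Z]

/-- The normal closure of `y`. -/
def G1 : Subgroup F := Subgroup.normalClosure {Y}

instance : G1.Normal := Subgroup.normalClosure_normal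

theorem Y_mem : Y ∈ G1 := Subgroup.subset_normalClosure rfl

theorem sq_facts {Q : Type*} [Group Q] {a c : Q} (h7 : c ^ 2 = 1) (h8 : (c * a) ^ 2 = 1) :
    c * c = 1 ∧ c⁻¹ = c ∧ c * a * c = a⁻¹ := by
  have hc : c * c = 1 := by rw [← pow_two]; exact h7
  refine ⟨hc, inv_eq_of_mul_eq_one_left hc, eq_inv_of_mul_eq_one_left ?_⟩
  rw [pow_two] at h8
  rw [← h8]; simp only [mul_assoc]

theorem collapse {Q : Type*} [Group Q] {a b c : Q} (h : Rels a b c) (hb : b = 1) : a = 1 := by
  obtain ⟨-, -, -, -, h5, -, h7, h8, h9, h10⟩ := h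
  subst hb
  obtain ⟨hc, hci, hca⟩ := sq_facts h7 h8
  simp only [one_pow, mul_one, one_mul, inv_one] at h5 h9 h10
  have h3 : ∀ n : ℕ, c * a ^ n * c = a⁻¹ ^ n := by
    intro n
    rw [← hca]
    calc c * a ^ n * c = c * a ^ n * c⁻¹ := by rw [hci]
      _ = (c * a * c⁻¹) ^ n := (conj_pow).symm
      _ = (c * a * c) ^ n := by rw [hci]
  have e4 : a ^ 4 = 1 := by
    have e : c⁻¹ * (a * a * a)⁻¹ * c * (a * a * a) * (a ^ 2)⁻¹ = a ^ 4 := by
      have h3' : c * (a ^ 3)⁻¹ * c = a ^ 3 := by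
        have := congrArg (·⁻¹) (h3 3)
        simpa [hci, inv_pow, mul_assoc] using this
      rw [show a * a * a = a ^ 3 by simp [pow_succ, mul_assoc], hci, h3']
      simp [pow_succ, mul_assoc]
    rw [← e]
    exact h9
  have e2 : a * a * (a * a) = 1 := by rw [← e4]; simp [pow_succ, mul_assoc]
  have hh : (a * a)⁻¹ * c * (a * a) = c := by
    have := h3 2
    rw [inv_pow] at this
    calc (a * a)⁻¹ * c * (a * a) = (a ^ 2)⁻¹ * c * a ^ 2 := by rw [pow_two]
      _ = (c * a ^ 2 * c) * c * a ^ 2 := by rw [this]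
      _ = c * (a * a * (c * c) * (a * a)) := by simp [pow_succ, mul_assoc]
      _ = c := by rw [hc, mul_one, e2, mul_one]
  rw [hh] at h10
  have e : c * (c * a) ^ 3 = a := by
    rw [pow_succ, h8, one_mul, ← mul_assoc, hc, one_mul]
  rw [← e]
  exact h10

theorem X_mem : X ∈ G1 := by
  rw [← QuotientGroup.eq_one_iff]
  exact collapse (rels_F.map (QuotientGroup.mk' G1)) ((QuotientGroup.eq_one_iff _).2 Y_mem)

theorem collapse_comm {Q : Type*} [Group Q] {a b c : Q} (h : Rels a b c) (hab : Commute a b) :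
    b = 1 := by
  obtain ⟨h1, h2, -, h4, h5, -, -, -, -, -⟩ := h
  have ha4 : a ^ 4 = 1 := by
    have e : a ^ 2 * b * a ^ 2 * b⁻¹ = a ^ 4 := by
      rw [mul_assoc (a ^ 2), ← (hab.pow_left 2).eq, ← mul_assoc, mul_inv_cancel_right, ← pow_add]
    rw [← e]; exact h2
  have h4' : b ^ 15 = 1 := by
    have e : a⁻¹ * b ^ 2 * a * b ^ 3 = b ^ 5 := by
      rw [mul_assoc a⁻¹, ← (hab.pow_right 2).eq, inv_mul_cancel_left, ← pow_add]
    rw [e, ← pow_mul] at h4
    exact h4
  have h5' : b ^ 8 = 1 := by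
    rw [hab.mul_pow, show a ^ 8 = (a ^ 4) ^ 2 by rw [← pow_mul], ha4, one_pow, one_mul] at h5
    exact h5
  have := pow_gcd_eq_one.2 ⟨h5', h4'⟩
  simpa using this

theorem G1_perfect : ⁅G1, G1⁆ = G1 := by
  refine le_antisymm (Subgroup.commutator_le_self G1) ?_
  haveI : (⁅G1, G1⁆).Normal := Subgroup.commutator_normal G1 G1
  let q := QuotientGroup.mk' ⁅G1, G1⁆
  have hcomm : Commute (q X) (q Y) := by
    rw [← commutatorElement_eq_one_iff_commute, ← map_commutatorElement]
    exact (QuotientGroup.eq_one_iff _).2 (Subgroup.commutator_mem_commutator X_mem Y_mem)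
  refine Subgroup.normalClosure_le_normal ?_
  rintro _ rfl
  exact (QuotientGroup.eq_one_iff _).1 (collapse_comm (rels_F.map q) hcomm)

/-- The square of `x`. -/
noncomputable abbrev C0 : F := X ^ 2

theorem conj_C0 : ∀ g : F, g * C0 * g⁻¹ = C0 ∨ g * C0 * g⁻¹ = C0⁻¹ := by
  obtain ⟨-, h2, -, -, -, -, h7, h8, -, -⟩ := rels_F
  obtain ⟨hc, hci, hca⟩ := sq_facts h7 h8
  intro g
  have hg : g ∈ Subgroup.closure ({X, Y, Z} : Set F) := by rw [closure_gens]; trivial
  induction hg using Subgroup.closure_induction with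
  | mem w hw =>
    rcases hw with rfl | rfl | rfl
    · left; group
    · right
      refine eq_inv_of_mul_eq_one_left ?_
      calc Y * C0 * Y⁻¹ * C0 = C0⁻¹ * (C0 * Y * C0 * Y⁻¹) * C0 := by group
        _ = 1 := by rw [h2]; group
    · right
      calc Z * C0 * Z⁻¹ = (Z * X * Z) ^ 2 := by
            show Z * X ^ 2 * Z⁻¹ = _
            rw [hci, pow_two, pow_two]
            calc Z * (X * X) * Z = Z * X * (Z * Z) * (X * Z) := by rw [hc]; group
              _ = Z * X * Z * (Z * X * Z) := by group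
        _ = C0⁻¹ := by rw [hca, inv_pow]
  | one => left; group
  | mul u v _ _ hu hv =>
    have e : u * v * C0 * (u * v)⁻¹ = u * (v * C0 * v⁻¹) * u⁻¹ := by group
    rw [e]
    rcases hv with hv | hv <;> rw [hv]
    · exact hu
    · rw [← conj_inv]
      rcases hu with hu | hu <;> rw [hu]
      · exact .inr rfl
      · exact .inl (inv_inv _)
  | inv u _ hu =>
    rcases hu with hu | hu
    · left
      calc u⁻¹ * C0 * u⁻¹⁻¹ = u⁻¹ * (u * C0 * u⁻¹) * u := by rw [hu, inv_inv]
        _ = C0 := by group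
    · right
      calc u⁻¹ * C0 * u⁻¹⁻¹ = (u⁻¹ * C0⁻¹ * u)⁻¹ := by group
        _ = (u⁻¹ * (u * C0 * u⁻¹) * u)⁻¹ := by rw [hu]
        _ = C0⁻¹ := by group

theorem G1_commute_C0 : ∀ g ∈ G1, Commute g C0 := by
  have key : ∀ g h : F, Commute ⁅g, h⁆ C0 := by
    intro g h
    have e : ⁅g, h⁆ * C0 * ⁅g, h⁆⁻¹ = g * (h * (g⁻¹ * (h⁻¹ * C0 * h) * g) * h⁻¹) * g⁻¹ := by
      rw [commutatorElement_def]; group
    have a1 := conj_C0 h⁻¹
    have a2 := conj_C0 g⁻¹
    have a3 := conj_C0 h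
    have a4 := conj_C0 g
    simp only [inv_inv] at a1 a2
    have inv' : ∀ {u s : F}, u * C0 * u⁻¹ = s → u * C0⁻¹ * u⁻¹ = s⁻¹ := by
      intro u s hs; rw [← hs, conj_inv]
    have hh : h⁻¹ * C0 * h = h * C0 * h⁻¹ := by
      rcases a1 with a1 | a1 <;> rcases a3 with a3 | a3 <;> rw [a1, a3]
      · exact calc C0 = h * (h⁻¹ * C0 * h) * h⁻¹ := by group
          _ = C0⁻¹ := by rw [a1, a3]
      · exact calc C0⁻¹ = h * (h⁻¹ * C0⁻¹ * h) * h⁻¹ := by group
          _ = h * (h⁻¹ * C0 * h)⁻¹ * h⁻¹ := by group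
          _ = C0 := by rw [a1, inv_inv, a3]
    have hg : g⁻¹ * C0 * g = g * C0 * g⁻¹ := by
      rcases a2 with a2 | a2 <;> rcases a4 with a4 | a4 <;> rw [a2, a4]
      · exact calc C0 = g * (g⁻¹ * C0 * g) * g⁻¹ := by group
          _ = C0⁻¹ := by rw [a2, a4]
      · exact calc C0⁻¹ = g * (g⁻¹ * C0⁻¹ * g) * g⁻¹ := by group
          _ = g * (g⁻¹ * C0 * g)⁻¹ * g⁻¹ := by group
          _ = C0 := by rw [a2, inv_inv, a4]
    refine (mul_inv_eq_iff_eq_mul.1 (?_ : ⁅g, h⁆ * C0 * ⁅g, h⁆⁻¹ = C0) :)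
    rw [e, hh]
    rcases a4 with a4 | a4 <;> rw [a4] at hg <;> rcases a3 with a3 | a3 <;> rw [a3]
    · rw [hg, a3, a4]
    · rw [show g⁻¹ * C0⁻¹ * g = (g⁻¹ * C0 * g)⁻¹ by group, hg, inv' a3, inv_inv, a4]
    · rw [hg, inv' a3, inv' a4, inv_inv]
    · rw [show g⁻¹ * C0⁻¹ * g = (g⁻¹ * C0 * g)⁻¹ by group, hg, inv_inv, a3, inv' a4, inv_inv]
  intro g hg
  rw [← G1_perfect] at hg
  have hle : ⁅G1, G1⁆ ≤ Subgroup.centralizer {C0} :=
    Subgroup.commutator_le.2 fun u _ v _ => Subgroup.mem_centralizer_singleton_iff.2 (key u v)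
  exact Subgroup.mem_centralizer_singleton_iff.1 (hle hg)

theorem C0_sq : C0 * C0 = 1 := by
  have h := (G1_commute_C0 Y Y_mem).eq
  have h2 := rels_F.r2
  calc C0 * C0 = C0 * (Y * C0) * Y⁻¹ := by rw [h]; group
    _ = 1 := by rw [← mul_assoc]; exact h2

theorem C0_central : C0 ∈ Subgroup.center F := by
  refine Subgroup.mem_center_iff.2 fun g => ?_
  rcases conj_C0 g with h | h
  · exact mul_inv_eq_iff_eq_mul.1 h
  · rw [inv_eq_of_mul_eq_one_left C0_sq] at h
    exact mul_inv_eq_iff_eq_mul.1 h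

/-- The subgroup of the square of `x`. -/
noncomputable def C : Subgroup F := Subgroup.zpowers C0

instance : C.Normal := by
  refine ⟨fun n hn g => ?_⟩
  have hc : n ∈ Subgroup.center F := Subgroup.zpowers_le.2 C0_central hn
  rw [(Subgroup.mem_center_iff.1 hc g), mul_inv_cancel_right]
  exact hn

theorem card_C_le : Nat.card C ≠ 0 ∧ Nat.card C ≤ 2 := by
  rw [C, Nat.card_zpowers]
  have h : orderOf C0 ∣ 2 := orderOf_dvd_of_pow_eq_one (by rw [pow_two]; exact C0_sq)
  exact ⟨fun e => by rw [e] at h; simp at h, Nat.le_of_dvd (by norm_num) h⟩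

section Aux

variable {Q : Type*} [Group Q] {a b c : Q}

open Cfsg.Agent.Lib.CosetEnum in
/-- The auxiliary presentation maps onto a quotient in which the square of `a` is trivial. -/
theorem aux_rels (h : Rels a b c) (ha : a * a = 1) : ∀ r ∈ pres, FreeGroup.lift
    (fun g : Gen => match g with
      | .x => a | .y => b | .z => c | .v => a * b * a | .w => (a * b * a) ^ 3) r = 1 := by
  obtain ⟨h1, h2, h3, h4, h5, h6, h7, h8, h9, h10⟩ := h
  obtain ⟨hc, hci, hca⟩ := sq_facts h7 h8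
  have hai : a⁻¹ = a := inv_eq_of_mul_eq_one_left ha
  have haa : ∀ t : Q, a * (a * t) = t := fun t => by rw [← mul_assoc, ha, one_mul]
  have cj : ∀ (u : Q) (n : ℕ), u ^ n = 1 → (a * u * a) ^ n = 1 := fun u n hu => by
    have e : a * u * a = a * u * a⁻¹ := by rw [hai]
    rw [e, conj_pow, hu, mul_one, mul_inv_cancel]
  have h3' : (b⁻¹ * a * b * a) ^ 3 = 1 := by
    have e : b⁻¹ * a * b * a = (a⁻¹ * b⁻¹ * a * b)⁻¹ := by simp [mul_assoc, hai]
    rw [e, inv_pow, h3, inv_one]
  have c1 := cj _ _ h1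
  have c4 := cj _ _ h4
  have c6 := cj _ _ h6
  intro r hr
  simp only [pres, relLists, Set.mem_setOf_eq, List.map_cons, List.map_nil, List.mem_cons,
    List.not_mem_nil, or_false] at hr
  rcases hr with rfl | rfl | rfl | rfl | rfl | rfl | rfl | rfl | rfl | rfl | rfl | rfl | rfl | rfl |
    rfl | rfl | rfl | rfl | rfl | rfl | rfl | rfl | rfl <;>
  · simp only [symOf, List.getD_cons_succ, List.getD_cons_zero, FreeGroup.lift_mk, List.map_cons,
      List.map_nil, List.prod_cons, List.prod_nil, mul_one, Bool.cond_true, Bool.cond_false]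
    simp only [pow_succ, pow_zero, one_mul, mul_assoc, mul_inv_rev, inv_inv, inv_one, hai, haa, hci, ha,
      mul_one, mul_inv_cancel_left, inv_mul_cancel_left, mul_inv_cancel, inv_mul_cancel]
      at h1 h2 h3 h3' h4 h5 h6 h7 h8 h9 h10 c1 c4 c6 ⊢
    try assumption

end Aux

theorem card_F_le : Nat.card F ≠ 0 ∧ Nat.card F ≤ 532224000 := by
  let q := QuotientGroup.mk' C
  have hx : q X * q X = 1 := by
    rw [← map_mul, ← pow_two]
    exact (QuotientGroup.eq_one_iff _).2 (Subgroup.mem_zpowers _)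
  let θ : PresentedGroup pres →* F ⧸ C := PresentedGroup.toGroup (aux_rels (rels_F.map q) hx)
  have hθ : Function.Surjective θ := by
    rw [← MonoidHom.range_eq_top]
    refine top_le_iff.1 ?_
    have h1 : (⊤ : Subgroup F).map q = ⊤ :=
      Subgroup.map_top_of_surjective q (QuotientGroup.mk'_surjective C)
    rw [← h1, ← closure_gens, MonoidHom.map_closure, Subgroup.closure_le]
    rintro _ ⟨w, (rfl | rfl | rfl), rfl⟩
    · exact ⟨PresentedGroup.of Gen.x, PresentedGroup.toGroup.of _⟩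
    · exact ⟨PresentedGroup.of Gen.y, PresentedGroup.toGroup.of _⟩
    · exact ⟨PresentedGroup.of Gen.z, PresentedGroup.toGroup.of _⟩
  obtain ⟨hb0, hb⟩ := EnumA.bound
  have htop : Cfsg.Agent.Lib.CosetEnum.subOf letters pres [[0], [1], [2], [3], [4], [5], [6]] = ⊤ := by
    refine top_le_iff.1 ((PresentedGroup.closure_range_of pres).symm.le.trans (Subgroup.closure_mono ?_))
    rintro _ ⟨g, rfl⟩
    refine ⟨[letters.col g], ?_, ?_⟩
    · cases g <;> simp [letters]
    · rw [List.map_cons, List.map_nil, List.prod_cons, List.prod_nil, mul_one,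
        CosetEnum.Letters.phi_of_lt (letters_col g).1, (letters_col g).2]
      rfl
  simp only [List.map_cons, List.map_nil] at hb0 hb
  rw [htop, Subgroup.card_top] at hb0 hb
  haveI : Finite (PresentedGroup pres) := Nat.finite_of_card_ne_zero hb0
  haveI : Finite (F ⧸ C) := Finite.of_surjective θ hθ
  have hq : Nat.card (F ⧸ C) ≤ 266112000 := (Nat.card_le_card_of_surjective θ hθ).trans hb
  rw [Subgroup.card_eq_card_quotient_mul_card_subgroup C]
  refine ⟨Nat.mul_ne_zero Nat.card_pos.ne' card_C_le.1, ?_⟩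
  calc Nat.card (F ⧸ C) * Nat.card C ≤ 266112000 * 2 := Nat.mul_le_mul hq card_C_le.2
    _ = 532224000 := by norm_num

instance : Finite F := Nat.finite_of_card_ne_zero card_F_le.1

end Cfsg.Agent.Lib.HNSub
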